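import Groth.Agent.Lib.AlgSpBirat4.Stalk

/-!
# Etale base change of birational morphisms
-/

set_option autoImplicit false
set_option backward.isDefEq.respectTransparency.types false

universe u

open CategoryTheory CategoryTheory.Limits AlgebraicGeometry AlgSp Topology
open Groth.Agent.AlgSpace Groth.Agent.AlgSpDecent

namespace Groth.Agent.AlgSpBirat4

theorem stalk_of_pullback_iso {Q W : Scheme.{u}} (g : Q ⟶ W) (w : W)
    [IsIso (pullback.snd g (W.fromSpecStalk w))] :
    ∃ q, g q = w ∧ (∀ q', g q' = w → q' = q) ∧ IsIso (g.stalkMap q) := by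
  let i := pullback.snd g (W.fromSpecStalk w)
  let τ := inv i ≫ pullback.fst g (W.fromSpecStalk w)
  have hτ : τ ≫ g = W.fromSpecStalk w := by
    rw [Category.assoc, pullback.condition, IsIso.inv_hom_id_assoc]
  let q := τ (IsLocalRing.closedPoint _)
  have hq : g q = w := by
    rw [← Scheme.Hom.comp_apply, hτ]; exact Scheme.fromSpecStalk_closedPoint
  have huniq : ∀ q', g q' = w → q' = q := fun q' hq' => by
    obtain ⟨z, hz, hz'⟩ := Scheme.Pullback.exists_preimage_pullback (f := g) (g := W.fromSpecStalk w) q'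
      (IsLocalRing.closedPoint _) (hq'.trans Scheme.fromSpecStalk_closedPoint.symm)
    rw [← hz]
    show pullback.fst g (W.fromSpecStalk w) z = τ _
    rw [← hz', ← Scheme.Hom.comp_apply, ← Category.assoc, show i ≫ inv i = 𝟙 _ from IsIso.hom_inv_id i,
      Category.id_comp]
  refine ⟨q, hq, huniq, ?_⟩
  clear huniq
  obtain ⟨ψ, hψ⟩ : ∃ ψ, τ = Spec.map ψ ≫ Q.fromSpecStalk q :=
    ⟨Scheme.stalkClosedPointTo τ, (Scheme.Spec_stalkClosedPointTo_fromSpecStalk τ).symm⟩
  clear_value q
  subst hq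
  have h1 : Spec.map ψ ≫ Spec.map (g.stalkMap q) = 𝟙 _ := by
    rw [← cancel_mono (W.fromSpecStalk (g q)), Category.assoc, Scheme.SpecMap_stalkMap_fromSpecStalk,
      ← Category.assoc, ← hψ, hτ, Category.id_comp]
  let c : Spec (Q.presheaf.stalk q) ⟶ pullback g (W.fromSpecStalk (g q)) :=
    pullback.lift (Q.fromSpecStalk q) (Spec.map (g.stalkMap q))
      (Scheme.SpecMap_stalkMap_fromSpecStalk g).symm
  have hc : Spec.map (g.stalkMap q) ≫ τ = Q.fromSpecStalk q := by
    rw [← pullback.lift_snd (Q.fromSpecStalk q) (Spec.map (g.stalkMap q))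
      (Scheme.SpecMap_stalkMap_fromSpecStalk g).symm]
    show (c ≫ i) ≫ inv i ≫ pullback.fst _ _ = _
    rw [Category.assoc, IsIso.hom_inv_id_assoc]
    exact pullback.lift_fst _ _ _
  have h2 : Spec.map (g.stalkMap q) ≫ Spec.map ψ = 𝟙 _ := by
    rw [← cancel_mono (Q.fromSpecStalk q), Category.assoc, ← hψ, hc, Category.id_comp]
  have : IsIso (Spec.map (g.stalkMap q)) := ⟨Spec.map ψ, h2, h1⟩
  exact ⟨ψ, Spec.map_injective (by rw [Spec.map_comp, h1, Spec.map_id]),
    Spec.map_injective (by rw [Spec.map_comp, h2, Spec.map_id])⟩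

variable {S : Scheme.{u}}

theorem mem_genericPoints_chart {F : Sp S} (hF : IsAlgSpace F) (hd : IsDecent F) {U : Over S}
    {φ : (yon S).obj U ⟶ F} (hφ : RepWith @Etale φ) (u : U.left) :
    u ∈ BiratDense12.maxPts U.left ↔ Points.ofPt φ u ∈ genericPoints (Points F) := by
  haveI := quasiSober_of_isDecent hF hd
  have hfin := finFibres_of_isDecent hF.diag hd
  haveI := t0Space_of_finFibres hF hfin
  constructor
  · intro hu
    obtain ⟨g₀, hg₀, hs⟩ := exists_genericPoint_specializes (Points.ofPt φ u)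
    obtain ⟨u', hu', rfl⟩ := exists_specializes_lift hφ hs (hfin g₀) rfl
    exact BiratDense12.eq_of_specializes hu hu' ▸ hg₀
  · intro hu
    obtain ⟨u', hu', hs⟩ := BiratDense12.exists_mem_maxPts u
    exact eq_of_specializes_of_finFibres hφ (hfin _) rfl
      (eq_of_specializes_genericPoint hu (hs.map (Points.continuous_ofPt φ))) hs ▸ hu'

theorem finite_genericPoints {A : Type*} [TopologicalSpace A] [T0Space A]
    (h : (irreducibleComponents A).Finite) : (genericPoints A).Finite := by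
  refine Set.Finite.of_finite_image (f := fun x => closure {x}) (h.subset ?_) ?_
  · rintro _ ⟨x, hx, rfl⟩; exact hx
  · intro a _ b _ hab; exact (inseparable_iff_closure_eq.2 hab).eq

theorem finite_components {A : Type*} [TopologicalSpace A] [QuasiSober A]
    (h : (genericPoints A).Finite) : (irreducibleComponents A).Finite := by
  refine (h.image fun x => closure {x}).subset fun C hC => ?_
  obtain ⟨g, hg⟩ := QuasiSober.sober hC.1 (isClosed_of_mem_irreducibleComponents C hC)
  exact ⟨g, show closure {g} ∈ irreducibleComponents A by rw [hg.def]; exact hC, hg.def⟩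

theorem baseChange {X Y : Space S} (f : X ⟶ Y) (hX : IsDecent X.obj) (hY : IsDecent Y.obj)
    (hXf : (irreducibleComponents (Points X.obj)).Finite) (hYf : (irreducibleComponents (Points Y.obj)).Finite)
    (hf : W4stk3decentspacesp2.IsBirational f.hom) {V : Over S} [IsAffine V.left]
    (b : (yon S).obj V ⟶ Y.obj) (hb : RepWith @Etale b) {P : Sp S} (fst : P ⟶ X.obj)
    (snd : P ⟶ (yon S).obj V) (hP : IsPullback fst snd f.hom b) :
    IsAlgSpace P ∧ IsDecent P ∧ (irreducibleComponents (Points P)).Finite ∧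
      (irreducibleComponents (Points ((yon S).obj V))).Finite ∧ W4stk3decentspacesp2.IsBirational snd := by
  obtain ⟨M⟩ := exists_model f hX hY hXf hYf hf
  have hP' : IsAlgSpace P := isAlgSpace_pullback Y.property X.property (IsAlgSpace.yon_obj V) hP
  have hfst : RepWith @Etale fst := repWith_of_isPullback hP.flip hb
  have hPd : IsDecent P := isDecent_of_isEtaleMor hP' X.property (fun _ ψ hψ => repWith_comp hψ hfst) hX
  have hVd : IsDecent ((yon S).obj V) := isDecent_yon V
  haveI := quasiSober_of_isDecent hP' hPd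
  haveI := quasiSober_of_isDecent (IsAlgSpace.yon_obj V) hVd
  haveI := t0Space_of_finFibres Y.property (finFibres_of_isDecent Y.property.diag hY)
  -- generic points
  have genfst : ∀ p : Points P, p ∈ genericPoints (Points P) ↔ Points.map fst p ∈ genericPoints (Points X.obj) := by
    intro p
    obtain ⟨U, φ, -, hφ, u, rfl⟩ := exists_affine_chart_at hP' p
    rw [← mem_genericPoints_chart hP' hPd hφ, mem_genericPoints_chart X.property hX (repWith_comp hφ hfst),
      Points.map_ofPt]
  have genb : ∀ v : V.left, v ∈ BiratDense12.maxPts V.left ↔ Points.ofPt b v ∈ genericPoints (Points Y.obj) :=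
    fun v => mem_genericPoints_chart Y.property hY hb v
  have hid : RepWith @IsOpenImmersion (𝟙 ((yon S).obj V)) := repWith_id _ V
  have genV : ∀ v : V.left, Points.ofPt (𝟙 _) v ∈ genericPoints (Points ((yon S).obj V)) ↔
      v ∈ BiratDense12.maxPts V.left := fun v => (mem_genericPoints_iff (isOpenEmbedding_ofPt hid) v).symm
  have hVmax : (BiratDense12.maxPts V.left).Finite :=
    ((finite_genericPoints hYf).biUnion fun y _ =>
      finFibres_of_isDecent Y.property.diag hY y V b inferInstance hb).subset fun v hv =>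
      Set.mem_biUnion ((genb v).1 hv) (rfl : Points.ofPt b v = Points.ofPt b v)
  have hVgen : genericPoints (Points ((yon S).obj V)) ⊆ Points.ofPt (𝟙 _) '' BiratDense12.maxPts V.left := by
    intro x hx
    obtain ⟨v, rfl⟩ := (Points.schemeEquiv V).surjective x
    exact ⟨v, (genV v).1 hx, rfl⟩
  -- the scheme model of the base change
  obtain ⟨W, wV₀, wM₀, sqW₀⟩ : ∃ (W : Over S) (wV : W ⟶ V) (wM : W ⟶ M.V),
      IsPullback ((yon S).map wM) ((yon S).map wV) M.b b := by
    obtain ⟨W, wV, fst', sq⟩ := M.hb.1 b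
    obtain ⟨wM, rfl⟩ := (yon S).map_surjective fst'
    exact ⟨W, wV, wM, sq⟩
  haveI : IsOpenImmersion wV₀.left := M.hb.2 b _ _ sqW₀
  haveI : Etale wM₀.left := hb.2 M.b _ _ sqW₀.flip
  let Q : Over S := Over.mk (pullback.snd M.g.left wM₀.left ≫ W.hom)
  let q₂ : Q ⟶ W := Over.homMk (pullback.snd M.g.left wM₀.left) rfl
  let q₁ : Q ⟶ M.U := Over.homMk (pullback.fst M.g.left wM₀.left) (by
    show pullback.fst _ _ ≫ M.U.hom = pullback.snd _ _ ≫ W.hom
    rw [← Over.w M.g, pullback.condition_assoc, Over.w wM₀])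
  have sqQ : IsPullback q₁ q₂ M.g wM₀ := IsPullback.of_map (Over.forget S)
    (Over.OverMorphism.ext pullback.condition) (IsPullback.of_hasPullback M.g.left wM₀.left)
  have big : IsPullback ((yon S).map q₁) ((yon S).map q₂ ≫ (yon S).map wV₀) (M.a ≫ f.hom) b := by
    rw [M.w]
    exact (sqQ.map (yon S)).paste_vert sqW₀
  let qP : (yon S).obj Q ⟶ P := hP.lift ((yon S).map q₁ ≫ M.a) ((yon S).map q₂ ≫ (yon S).map wV₀)
    (by rw [Category.assoc]; exact big.w)
  have hq₂ : qP ≫ snd = (yon S).map q₂ ≫ (yon S).map wV₀ := hP.lift_snd _ _ _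
  have hq₁ : qP ≫ fst = (yon S).map q₁ ≫ M.a := hP.lift_fst _ _ _
  have sqP : IsPullback ((yon S).map q₁) qP M.a fst := by
    refine IsPullback.of_bot ?_ hq₁.symm hP
    rw [hq₂]; exact big
  have hqP : RepWith @IsOpenImmersion qP := repWith_of_isPullback sqP M.ha
  have heq := isOpenEmbedding_ofPt hqP
  have hew := isOpenEmbedding_ofPt (repWith_yon_map_iff @IsOpenImmersion wV₀ |>.2 ‹IsOpenImmersion wV₀.left›)
  have ptq : ∀ z : Q.left, Points.map fst (Points.ofPt qP z) = Points.ofPt M.a (q₁.left z) := fun z => by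
    rw [Points.map_ofPt, hq₁, ofPt_map_comp]
  have ptw : ∀ w : W.left, Points.ofPt b (wV₀.left w) = Points.ofPt M.b (wM₀.left w) := fun w => by
    rw [← ofPt_map_comp, ← sqW₀.w, ofPt_map_comp]
  have maxQ : ∀ z : Q.left, z ∈ BiratDense12.maxPts Q.left ↔ q₁.left z ∈ BiratDense12.maxPts M.U.left := fun z =>
    ((mem_genericPoints_iff heq z).trans (genfst _)).trans
      (by rw [ptq]; exact (mem_genericPoints_iff (isOpenEmbedding_ofPt M.ha) _).symm)
  have maxW : ∀ w : W.left, w ∈ BiratDense12.maxPts W.left ↔ wM₀.left w ∈ BiratDense12.maxPts M.V.left := fun w =>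
    ((mem_genericPoints_iff wV₀.left.isOpenEmbedding w).trans (genb _)).trans
      (by rw [ptw]; exact (mem_genericPoints_iff (isOpenEmbedding_ofPt M.hb) _).symm)
  have hiso : ∀ w ∈ BiratDense12.maxPts W.left, ∃ q, q ∈ BiratDense12.maxPts Q.left ∧ q₂.left q = w ∧
      (∀ q', q₂.left q' = w → q' = q) ∧ IsIso (q₂.left.stalkMap q) := by
    intro w hw
    haveI := Groth.Agent.S9677.result M.g.left M.finU M.finV M.bij M.iso (wM₀.left w) ((maxW w).1 hw)
    have : IsIso (pullback.snd M.g.left (W.left.fromSpecStalk w ≫ wM₀.left)) := by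
      rw [← Scheme.SpecMap_stalkMap_fromSpecStalk]
      exact isIso_snd_comp _ _ _
    have : IsIso (pullback.snd q₂.left (W.left.fromSpecStalk w)) := by
      show IsIso (pullback.snd (pullback.snd M.g.left wM₀.left) (W.left.fromSpecStalk w))
      rw [← pullbackLeftPullbackSndIso_hom_snd]
      infer_instance
    obtain ⟨q, hq, hu, hi⟩ := stalk_of_pullback_iso q₂.left w
    refine ⟨q, (maxQ q).2 ?_, hq, hu, hi⟩
    refine (mem_genericPoints_iff (isOpenEmbedding_ofPt M.ha) _).2 (M.mem_genericPoints hX hY hf ?_)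
    rw [M.ptW]
    refine (mem_genericPoints_iff (isOpenEmbedding_ofPt M.hb) _).1 ?_
    have e : M.g.left (q₁.left q) = wM₀.left w := by
      rw [← hq, ← Scheme.Hom.comp_apply, ← Scheme.Hom.comp_apply, ← Over.comp_left, ← Over.comp_left, sqQ.w]
    exact e ▸ (maxW w).1 hw
  have hmaps : ∀ z ∈ BiratDense12.maxPts Q.left, q₂.left z ∈ BiratDense12.maxPts W.left := fun z hz => by
    refine (maxW _).2 ?_
    rw [← Scheme.Hom.comp_apply, ← Over.comp_left, ← sqQ.w, Over.comp_left, Scheme.Hom.comp_apply]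
    exact M.bij.mapsTo ((maxQ z).1 hz)
  have hbij : Set.BijOn (fun z => q₂.left z) (BiratDense12.maxPts Q.left) (BiratDense12.maxPts W.left) :=
    ⟨hmaps, fun z hz z' hz' e => by
      obtain ⟨q, -, -, hu, -⟩ := hiso _ (hmaps z hz)
      exact (hu z rfl).trans (hu z' e.symm).symm,
    fun w hw => by
      obtain ⟨q, hq, hqw, -, -⟩ := hiso w hw
      exact ⟨q, hq, hqw⟩⟩
  have hQsurj : ∀ p ∈ genericPoints (Points P), ∃ z ∈ BiratDense12.maxPts Q.left, Points.ofPt qP z = p := by
    intro p hp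
    obtain ⟨u, hu⟩ := M.genX ((genfst p).1 hp)
    obtain ⟨w, -, hw⟩ := exists_point_lift sqP (Points.ofScheme M.U u) p
      (by rw [← Points.ofPt_eq_map_ofScheme]; exact hu)
    obtain ⟨z, rfl⟩ := (Points.schemeEquiv Q).surjective w
    have hz : Points.ofPt qP z = p := (Points.ofPt_eq_map_ofScheme qP z).trans hw
    exact ⟨z, (mem_genericPoints_iff heq z).2 (hz.symm ▸ hp), hz⟩
  have hWsurj : ∀ v ∈ BiratDense12.maxPts V.left, ∃ w ∈ BiratDense12.maxPts W.left, wV₀.left w = v := by
    intro v hv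
    obtain ⟨v', hv'⟩ := M.genY ((genb v).1 hv)
    obtain ⟨w, -, hw⟩ := exists_pt_of_isPullback sqW₀ (x := Points.ofScheme M.V v') (t := v)
      (by rw [← Points.ofPt_eq_map_ofScheme]; exact hv')
    exact ⟨w, (mem_genericPoints_iff wV₀.left.isOpenEmbedding w).2 (hw.symm ▸ hv), hw⟩
  have ptsnd : ∀ z : Q.left, Points.map snd (Points.ofPt qP z) = Points.ofPt (𝟙 _) (wV₀.left (q₂.left z)) :=
    fun z => by
      rw [Points.map_ofPt, hq₂, ← ofPt_map_comp wV₀, Category.comp_id, ofPt_map_comp]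
  have hWmax : (BiratDense12.maxPts W.left).Finite :=
    (hVmax.preimage wV₀.left.isOpenEmbedding.injective.injOn).subset fun w hw =>
      (mem_genericPoints_iff wV₀.left.isOpenEmbedding w).1 hw
  have hQmax : (BiratDense12.maxPts Q.left).Finite :=
    Set.Finite.of_finite_image (hbij.image_eq.symm ▸ hWmax) hbij.injOn
  refine ⟨hP', hPd, finite_components ((hQmax.image (Points.ofPt qP)).subset fun p hp => ?_),
    finite_components ((hVmax.image _).subset hVgen), ⟨⟨?_, ?_, ?_⟩, ?_⟩⟩
  · obtain ⟨z, hz, hzp⟩ := hQsurj p hp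
    exact ⟨z, hz, hzp⟩
  · intro p hp
    obtain ⟨z, hz, rfl⟩ := hQsurj p hp
    rw [ptsnd, genV]
    exact (mem_genericPoints_iff wV₀.left.isOpenEmbedding _).1 (hmaps z hz)
  · intro p hp p' hp' e
    obtain ⟨z, hz, rfl⟩ := hQsurj p hp
    obtain ⟨z', hz', rfl⟩ := hQsurj p' hp'
    rw [ptsnd, ptsnd] at e
    rw [hbij.injOn hz hz' (wV₀.left.isOpenEmbedding.injective ((isOpenEmbedding_ofPt hid).injective e))]
  · intro x hx
    obtain ⟨v, hv, rfl⟩ := hVgen hx
    obtain ⟨w, hw, rfl⟩ := hWsurj v hv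
    obtain ⟨z, hz, rfl⟩ := hbij.surjOn hw
    exact ⟨_, (mem_genericPoints_iff heq z).1 hz, ptsnd z⟩
  · intro p hp
    obtain ⟨z, hz, rfl⟩ := hQsurj p hp
    refine ⟨Q, W, qP, (yon S).map wV₀, q₂, z, hqP, (repWith_yon_map_iff _ _).2 ‹_›, hq₂, rfl, ?_⟩
    obtain ⟨q, -, -, hu, hi⟩ := hiso _ (hmaps z hz)
    exact (hu z rfl) ▸ hi

end Groth.Agent.AlgSpBirat4
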