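import Groth.Agent.Lib.AlgSpDecent.Components
import Groth.Agent.Lib.AlgSpDecent.Sober
import Groth.Agent.Lib.LimSys14.Points
import Groth.Agent.Lib.DistSq15.Square
import Groth.Agent.Lib.BiratDense12.Dense
import Groth.Agent.Lib.EtaleFibre12.Basic
import Groth.Prelude.Def_W4stk3decentspacesp2Birat
import Groth.Prelude.Def_AlgSp3
import Groth.Prelude.Def_AlgSp4

/-!
# Birational morphisms of decent spaces through the largest open subscheme
-/

set_option autoImplicit false
set_option backward.isDefEq.respectTransparency.types false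

universe u

open CategoryTheory CategoryTheory.Limits AlgebraicGeometry AlgSp Topology
open Groth.Agent.AlgSpace Groth.Agent.AlgSpDecent

namespace Groth.Agent.AlgSpBirat4

section Top

variable {A B : Type*} [TopologicalSpace A] [TopologicalSpace B] {e : A → B}

theorem mem_genericPoints_iff (he : IsOpenEmbedding e) (x : A) :
    x ∈ genericPoints A ↔ e x ∈ genericPoints B := by
  constructor
  · intro hx
    refine ⟨isIrreducible_singleton.closure, fun Z hZ hle => ?_⟩
    obtain ⟨T, hT, hZT⟩ := exists_mem_irreducibleComponents_subset_of_isIrreducible Z hZ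
    have hxT : e x ∈ T := hZT (hle (subset_closure rfl))
    have h1 := preimage_mem_irreducibleComponents hT he ⟨e x, hxT, x, rfl⟩
    have h2 : closure {x} = e ⁻¹' T := by
      refine hx.eq_of_subset h1.1 (closure_minimal (Set.singleton_subset_iff.2 hxT) ?_)
      exact (isClosed_of_mem_irreducibleComponents T hT).preimage he.continuous
    calc Z ⊆ T := hZT
      _ ⊆ closure (T ∩ Set.range e) :=
          subset_closure_inter_of_isPreirreducible_of_isOpen hT.1.2 he.isOpen_range ⟨e x, hxT, x, rfl⟩
      _ ⊆ closure {e x} := closure_minimal (by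
          rintro _ ⟨hb, a, rfl⟩
          have ha : a ∈ closure {x} := h2 ▸ hb
          simpa using image_closure_subset_closure_image he.continuous ⟨a, ha, rfl⟩) isClosed_closure
  · intro hx
    have h1 := preimage_mem_irreducibleComponents (t := closure {e x}) hx he
      ⟨e x, subset_closure rfl, x, rfl⟩
    have h2 : closure ({x} : Set A) = e ⁻¹' closure {e x} := by
      rw [he.isInducing.closure_eq_preimage_closure_image, Set.image_singleton]
    show closure {x} ∈ irreducibleComponents A
    rwa [h2]

theorem exists_genericPoint_specializes [QuasiSober A] (x : A) : ∃ g ∈ genericPoints A, g ⤳ x := by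
  obtain ⟨g, hg⟩ := QuasiSober.sober (isIrreducible_irreducibleComponent (x := x))
    isClosed_irreducibleComponent
  refine ⟨g, ?_, hg.specializes mem_irreducibleComponent⟩
  show closure {g} ∈ irreducibleComponents A
  rw [hg.def]
  exact irreducibleComponent_mem_irreducibleComponents x

theorem dense_of_genericPoints_subset [QuasiSober A] {U : Set A} (h : genericPoints A ⊆ U) : Dense U := by
  intro x
  obtain ⟨g, hg, hgx⟩ := exists_genericPoint_specializes x
  exact closure_mono (Set.singleton_subset_iff.2 (h hg)) hgx.mem_closure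

theorem eq_of_specializes_genericPoint [T0Space A] {g x : A} (hg : g ∈ genericPoints A) (h : x ⤳ g) : x = g := by
  have h1 : closure {g} ⊆ closure {x} := specializes_iff_closure_subset.1 h
  exact (inseparable_iff_closure_eq.2 ((hg.2 isIrreducible_singleton.closure h1).antisymm h1)).eq

end Top

variable {S : Scheme.{u}}

theorem repWith_etale_of_openImm {F G : Sp S} {j : F ⟶ G} (hj : RepWith @IsOpenImmersion j) :
    RepWith @Etale j := repWith_mono (fun _ _ g (_ : IsOpenImmersion g) => (inferInstance : Etale g)) hj

theorem isOpenEmbedding_ofPt {F : Sp S} {U : Over S} {a : (yon S).obj U ⟶ F}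
    (ha : RepWith @IsOpenImmersion a) : IsOpenEmbedding (Points.ofPt a) := by
  haveI := DistSq15.mono_of_openImm ha
  exact IsOpenEmbedding.of_continuous_injective_isOpenMap (Points.continuous_ofPt a)
    (LimSys14.ofPt_injective_of_mono a) (isOpenMap_ofPt a (repWith_etale_of_openImm ha))

theorem range_map_eq_range_ofPt {F : Sp S} {U : Over S} (a : (yon S).obj U ⟶ F) :
    Set.range (Points.map a) = Set.range (Points.ofPt a) := by
  ext x
  constructor
  · rintro ⟨z, rfl⟩
    obtain ⟨u, rfl⟩ := (Points.schemeEquiv U).surjective z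
    exact ⟨u, Points.ofPt_eq_map_ofScheme a u⟩
  · rintro ⟨u, rfl⟩
    exact ⟨Points.ofScheme U u, (Points.ofPt_eq_map_ofScheme a u).symm⟩

/-- A map of schemes over a space which is a scheme open subspace is an open immersion. -/
theorem isOpenImmersion_of_comp {F : Sp S} {U T : Over S} {a : (yon S).obj U ⟶ F}
    {a' : (yon S).obj T ⟶ F} (ha : RepWith @IsOpenImmersion a) (ha' : RepWith @IsOpenImmersion a')
    (k : T ⟶ U) (hk : (yon S).map k ≫ a = a') : IsOpenImmersion k.left := by
  haveI := DistSq15.mono_of_openImm ha
  refine ha'.2 a (𝟙 _) k ?_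
  have sq := isPullback_of_mono ((yon S).map k) a
  rw [hk] at sq
  exact sq

/-- The largest open subscheme of a decent space. -/
theorem exists_schematic (X : Space S) (hX : IsDecent X.obj) :
    ∃ (U : Over S) (a : (yon S).obj U ⟶ X.obj), RepWith @IsOpenImmersion a ∧
      ∀ (T : Over S) (a' : (yon S).obj T ⟶ X.obj), RepWith @IsOpenImmersion a' →
        Set.range (Points.ofPt a') ⊆ Set.range (Points.ofPt a) := by
  obtain ⟨W, hW, -, Y, ⟨e⟩, hmax⟩ := exists_max_open_scheme X fun G hG hne => by
    obtain ⟨x, hx⟩ := hne
    obtain ⟨V, φ, hV, hφ, v, rfl⟩ := exists_affine_chart_at X.property x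
    obtain ⟨R, s, fst, sq⟩ := hφ.1 φ
    obtain ⟨t, rfl⟩ := (yon S).map_surjective fst
    refine exists_open_scheme_in hφ sq (fun w => ?_) hG ⟨v, hx⟩
    obtain ⟨q, hq, -, hqc⟩ := hX (Points.ofPt φ w)
    refine ((finite_fibres_of_qc_fieldPt X.property.diag q hqc hφ).2 R s t sq).subset fun r hr => ?_
    rw [Set.mem_preimage, Set.mem_singleton_iff] at hr
    rw [Set.mem_preimage, Set.mem_singleton_iff, ofPt_map_comp, ofPt_rel sq r, hr, hq]
  have ha : RepWith @IsOpenImmersion (e.hom ≫ openSubι W) :=
    (repWith_respectsIso_left _).2 (repWith_openSubι hW)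
  refine ⟨Y, e.hom ≫ openSubι W, ha, fun T a' ha' => ?_⟩
  have hrW : Set.range (Points.ofPt (e.hom ≫ openSubι W)) = W := by
    rw [← range_map_eq_range_ofPt]
    refine subset_antisymm ?_ ?_
    · rintro _ ⟨z, rfl⟩
      rw [Points.map_comp]
      exact (range_openSubι W).subset ⟨_, rfl⟩
    · intro x hx
      obtain ⟨z, rfl⟩ := (range_openSubι W).superset hx
      exact ⟨Points.map e.inv z, by rw [← Points.map_comp, Iso.inv_hom_id_assoc]⟩
  rw [hrW]
  let W' := Set.range (Points.ofPt a')
  have hW' : IsOpen W' := (isOpenEmbedding_ofPt ha').isOpen_range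
  obtain ⟨l, hl⟩ := exists_lift_openSub (W := W') a' fun t => ⟨t, rfl⟩
  have hlo : RepWith @IsOpenImmersion l :=
    repWith_of_isPullback (isPullback_of_mono l (openSubι W')) (by rw [hl]; exact ha')
  have : IsIso l := isIso_of_isOpenImmersion_of_surjective hlo fun z => by
    obtain ⟨t, ht⟩ := (range_openSubι W').subset (Set.mem_range_self z)
    refine ⟨Points.ofScheme T t, (isEmbedding_map_of_immersion X.property (repWith_mono
      (fun _ _ q (_ : IsOpenImmersion q) => (inferInstance : IsImmersion q))
        (repWith_openSubι hW'))).1.injective ?_⟩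
    rw [← Points.map_comp, hl, ← Points.ofPt_eq_map_ofScheme, ht]
  exact hmax W' hW' ⟨T, ⟨asIso l⟩⟩

end Groth.Agent.AlgSpBirat4
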