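import Groth.Agent.Lib.AlgSpBirat4.Main
import Mathlib.AlgebraicGeometry.ResidueField
import Mathlib.RingTheory.Algebraic.Integral

/-!
# The fibre over a generic point
-/

set_option autoImplicit false
set_option backward.isDefEq.respectTransparency.types false

universe u

open CategoryTheory CategoryTheory.Limits AlgebraicGeometry AlgSp Topology
open Groth.Agent.AlgSpace Groth.Agent.AlgSpDecent

namespace Groth.Agent.AlgSpBirat4

/-- Specializations in a fibre are trivial below a finite residue field extension. -/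
theorem eq_of_specializes_of_finite_residue {X Y : Scheme.{u}} (f : X ⟶ Y) {g x : X} (h : g ⤳ x)
    (hf : f g = f x) (hfin : (f.residueFieldMap g).hom.Finite) : x = g := by
  let s := X.presheaf.stalkSpecializes h
  let φ : Y.presheaf.stalk (f g) ⟶ X.presheaf.stalk x :=
    Y.presheaf.stalkSpecializes (Inseparable.of_eq hf).symm.specializes ≫ f.stalkMap x
  have hφ : φ ≫ s = f.stalkMap g := by
    rw [Category.assoc, ← Scheme.Hom.stalkSpecializes_stalkMap f g x h, ← Category.assoc,
      TopCat.Presheaf.stalkSpecializes_comp]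
    have : ∀ h' : f g ⤳ f g, Y.presheaf.stalkSpecializes h' = 𝟙 _ := fun h' =>
      TopCat.Presheaf.stalkSpecializes_refl _ _
    rw [this, Category.id_comp]
  letI := (f.residueFieldMap g).hom.toAlgebra
  haveI : Module.Finite (Y.residueField (f g)) (X.residueField g) := hfin
  let r : X.presheaf.stalk x →+* X.residueField g := (s ≫ X.residue g).hom
  have hc : ∀ c, algebraMap (Y.residueField (f g)) (X.residueField g) c ∈ r.range := fun c => by
    obtain ⟨c, rfl⟩ := Ideal.Quotient.mk_surjective c
    refine ⟨φ.hom c, ?_⟩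
    show ((φ ≫ s) ≫ X.residue g).hom c = _
    rw [hφ, ← Scheme.residue_residueFieldMap]
    rfl
  let A : Subalgebra (Y.residueField (f g)) (X.residueField g) := { r.range with algebraMap_mem' := hc }
  have hs : IsLocalHom s.hom := ⟨fun b hb => by
    have hne : r b ≠ 0 := fun h0 => IsLocalRing.residue_ne_zero_iff_isUnit _ |>.2 hb h0
    obtain ⟨b', hb'⟩ : (r b)⁻¹ ∈ A := A.inv_mem_of_algebraic (x := ⟨r b, b, rfl⟩)
      (Algebra.IsAlgebraic.isAlgebraic (R := Y.residueField (f g)) (r b))
    have h1 : r (b * b' - 1) = 0 := by rw [map_sub, map_mul, hb', mul_inv_cancel₀ hne, map_one, sub_self]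
    by_contra hu
    have h2 : IsUnit (b * b' - 1) := by
      by_contra h3
      have := (IsLocalRing.maximalIdeal _).sub_mem
        (Ideal.mul_mem_right b' _ ((IsLocalRing.mem_maximalIdeal b).2 hu)) ((IsLocalRing.mem_maximalIdeal _).2 h3)
      rw [sub_sub_cancel] at this
      exact (IsLocalRing.mem_maximalIdeal _).1 this isUnit_one
    exact (h2.map r).ne_zero h1⟩
  have h2 := congrArg (fun m : Spec (X.presheaf.stalk g) ⟶ X => m (IsLocalRing.closedPoint _))
    (Scheme.SpecMap_stalkSpecializes_fromSpecStalk h)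
  simp only [Scheme.Hom.comp_apply, Scheme.fromSpecStalk_closedPoint] at h2
  rw [show Spec.map (X.presheaf.stalkSpecializes h) (IsLocalRing.closedPoint (X.presheaf.stalk g)) =
    IsLocalRing.closedPoint (X.presheaf.stalk x) from IsLocalRing.comap_closedPoint s.hom,
    Scheme.fromSpecStalk_closedPoint] at h2
  exact h2

theorem surjective_residueFieldMap {X Y : Scheme.{u}} (f : X ⟶ Y) (x : X) [IsIso (f.stalkMap x)] :
    Function.Surjective (f.residueFieldMap x).hom := by
  intro y
  obtain ⟨y, rfl⟩ := Ideal.Quotient.mk_surjective y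
  obtain ⟨a, rfl⟩ := (ConcreteCategory.bijective_of_isIso (f.stalkMap x)).2 y
  exact ⟨(Y.residue (f x)).hom a, ConcreteCategory.congr_hom (Scheme.residue_residueFieldMap f x) a⟩

variable {S : Scheme.{u}}

/-- Points over generic points are generic. -/
theorem Model.mem_genericPoints {X Y : Space S} {f : X ⟶ Y} (M : Model f) (hX : IsDecent X.obj) (hY : IsDecent Y.obj)
    (hf : W4stk3decentspacesp2.IsBirational f.hom) {z : Points X.obj}
    (hz : Points.map f.hom z ∈ genericPoints (Points Y.obj)) : z ∈ genericPoints (Points X.obj) := by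
  haveI := quasiSober_of_isDecent X.property hX
  haveI := t0Space_of_finFibres Y.property (finFibres_of_isDecent Y.property.diag hY)
  obtain ⟨g₀, hg₀, hgz⟩ := exists_genericPoint_specializes z
  have hfg : Points.map f.hom g₀ = Points.map f.hom z :=
    eq_of_specializes_genericPoint hz (hgz.map (Points.continuous_map f.hom))
  obtain ⟨W, φ, -, hφ, w, rfl⟩ := exists_affine_chart_at X.property z
  obtain ⟨w₀, hw₀, hw₀'⟩ := exists_specializes_lift hφ hgz (finFibres_of_isDecent X.property.diag hX g₀) rfl
  let Ob : W.left.Opens := ⟨Points.ofPt φ ⁻¹' (Points.map f.hom ⁻¹' Set.range (Points.ofPt M.b)),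
    ((isOpenEmbedding_ofPt M.hb).isOpen_range.preimage (Points.continuous_map f.hom)).preimage
      (Points.continuous_ofPt φ)⟩
  let T : Over S := Over.mk (Ob.ι ≫ W.hom)
  let ι : T ⟶ W := Over.homMk Ob.ι rfl
  let t : (yon S).obj T ⟶ X.obj := (yon S).map ι ≫ φ
  have ht : RepWith @Etale t := repWith_etale_restrict hφ Ob
  have hti : ∀ z, Points.ofPt t z = Points.ofPt φ (Ob.ι z) := fun z => ofPt_map_comp ι φ z
  obtain ⟨h, hh⟩ := exists_factor_yon M.hb (t ≫ f.hom) (by
    rintro _ ⟨z, rfl⟩
    rw [← Points.map_ofPt, hti]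
    exact z.2)
  let Oa : T.left.Opens := ⟨Points.ofPt t ⁻¹' Set.range (Points.ofPt M.a),
    (isOpenEmbedding_ofPt M.ha).isOpen_range.preimage (Points.continuous_ofPt t)⟩
  let R : Over S := Over.mk (Oa.ι ≫ T.hom)
  let j : R ⟶ T := Over.homMk Oa.ι rfl
  let r : (yon S).obj R ⟶ X.obj := (yon S).map j ≫ t
  obtain ⟨k, hk⟩ := exists_factor_yon M.ha r (by
    rintro _ ⟨z, rfl⟩
    rw [show Points.ofPt r z = Points.ofPt t (Oa.ι z) from ofPt_map_comp j t z]
    exact z.2)
  haveI := DistSq15.mono_of_openImm M.ha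
  haveI := DistSq15.mono_of_openImm M.hb
  haveI : Etale k.left := by
    have sq := isPullback_of_mono ((yon S).map k) M.a
    rw [hk] at sq
    exact (repWith_etale_restrict ht Oa).2 M.a (𝟙 _) k sq
  have e : k.left ≫ M.g.left = Oa.ι ≫ h.left := by
    have e1 : k ≫ M.g = j ≫ h := by
      refine (yon S).map_injective ?_
      rw [← cancel_mono M.b, Functor.map_comp, Functor.map_comp, Category.assoc, Category.assoc, ← M.w,
        ← Category.assoc, hk, hh]
      exact Category.assoc _ _ _
    rw [← Over.comp_left, e1]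
    rfl
  have hwb : w ∈ Ob := M.genY hz
  have hw₀b : w₀ ∈ Ob := by
    show Points.map f.hom (Points.ofPt φ w₀) ∈ Set.range (Points.ofPt M.b)
    rw [hw₀', hfg]
    exact M.genY hz
  let p₀ : T.left := ⟨w₀, hw₀b⟩
  let p : T.left := ⟨w, hwb⟩
  have hp₀ : Points.ofPt t p₀ = g₀ := (hti p₀).trans hw₀'
  have hp : p₀ ⤳ p := Ob.ι.isOpenEmbedding.isInducing.specializes_iff.1 hw₀
  have hhp : h.left p₀ = h.left p := (isOpenEmbedding_ofPt M.hb).injective (by
    rw [← ofPt_map_comp, ← ofPt_map_comp, hh, ← Points.map_ofPt t f.hom, ← Points.map_ofPt t f.hom, hp₀, hti p, hfg]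
    rfl)
  have hp₀a : p₀ ∈ Oa := by
    show Points.ofPt t p₀ ∈ Set.range (Points.ofPt M.a)
    rw [hp₀]; exact M.genX hg₀
  let q : R.left := ⟨p₀, hp₀a⟩
  have hkq : k.left q ∈ BiratDense12.maxPts M.U.left := by
    refine (mem_genericPoints_iff (isOpenEmbedding_ofPt M.ha) _).2 ?_
    rw [← ofPt_map_comp, hk, show Points.ofPt r q = Points.ofPt t p₀ from ofPt_map_comp j t q, hp₀]
    exact hg₀
  have hfin : (h.left.residueFieldMap (Oa.ι q)).hom.Finite := by
    haveI := M.iso _ hkq
    haveI : IsIso (Oa.ι.stalkMap q) := inferInstance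
    have h1 : ((k.left ≫ M.g.left).residueFieldMap q).hom.Finite := by
      rw [Scheme.residueFieldMap_comp]
      exact (EtaleFibre12.finite_residueFieldMap k.left q).comp
        (RingHom.Finite.of_surjective _ (surjective_residueFieldMap M.g.left (k.left q)))
    have h2 : ((Oa.ι ≫ h.left).residueFieldMap q).hom.Finite := e ▸ h1
    rw [Scheme.residueFieldMap_comp] at h2
    let eR := RingEquiv.ofBijective (Oa.ι.residueFieldMap q).hom
      ⟨RingHom.injective _, surjective_residueFieldMap Oa.ι q⟩
    have h3 : (h.left.residueFieldMap (Oa.ι q)).hom =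
        eR.symm.toRingHom.comp (h.left.residueFieldMap (Oa.ι q) ≫ Oa.ι.residueFieldMap q).hom := by
      ext x
      exact (eR.symm_apply_apply _).symm
    rw [h3]
    exact RingHom.Finite.comp (RingHom.Finite.of_surjective _ eR.symm.surjective) h2
  have hpp : p = p₀ := eq_of_specializes_of_finite_residue h.left hp hhp hfin
  have hww : w = w₀ := congrArg Subtype.val hpp
  rw [hww, hw₀']
  exact hg₀

/-- The fibre over a generic point lies in the chart. -/
theorem Model.mem_range {X Y : Space S} {f : X ⟶ Y} (M : Model f) (hX : IsDecent X.obj) (hY : IsDecent Y.obj)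
    (hf : W4stk3decentspacesp2.IsBirational f.hom) {z : Points X.obj}
    (hz : Points.map f.hom z ∈ genericPoints (Points Y.obj)) : z ∈ Set.range (Points.ofPt M.a) :=
  M.genX (M.mem_genericPoints hX hY hf hz)

end Groth.Agent.AlgSpBirat4
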