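import Groth.Agent.Lib.AlgSpBirat4.Basic
import Groth.Agent.Lib.AlgSpDescent.RedNoeth

/-!
# Reduction of birational morphisms of decent spaces to schemes
-/

set_option autoImplicit false
set_option backward.isDefEq.respectTransparency.types false

universe u

open CategoryTheory CategoryTheory.Limits AlgebraicGeometry AlgSp Topology
open Groth.Agent.AlgSpace Groth.Agent.AlgSpDecent

namespace Groth.Agent.AlgSpBirat4

variable {S : Scheme.{u}}

/-- A birational morphism is, near the generic points, a birational morphism of open subschemes. -/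
structure Model {X Y : Space S} (f : X ⟶ Y) where
  U : Over S
  V : Over S
  a : (yon S).obj U ⟶ X.obj
  b : (yon S).obj V ⟶ Y.obj
  g : U ⟶ V
  ha : RepWith @IsOpenImmersion a
  hb : RepWith @IsOpenImmersion b
  w : a ≫ f.hom = (yon S).map g ≫ b
  genX : genericPoints (Points X.obj) ⊆ Set.range (Points.ofPt a)
  genY : genericPoints (Points Y.obj) ⊆ Set.range (Points.ofPt b)
  finU : (irreducibleComponents ↥U.left).Finite
  finV : (irreducibleComponents ↥V.left).Finite
  bij : Set.BijOn (fun x => g.left.base x) (BiratDense12.maxPts U.left) (BiratDense12.maxPts V.left)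
  iso : ∀ x ∈ BiratDense12.maxPts U.left, IsIso (g.left.stalkMap x)
  schY : ∀ (T : Over S) (b' : (yon S).obj T ⟶ Y.obj), RepWith @IsOpenImmersion b' →
    Set.range (Points.ofPt b') ⊆ Set.range (Points.ofPt b)

theorem map_ofPt_of_w {F G : Sp S} {U V : Over S} {a : (yon S).obj U ⟶ F} {b : (yon S).obj V ⟶ G}
    {f : F ⟶ G} {g : U ⟶ V} (w : a ≫ f = (yon S).map g ≫ b) (x : U.left) :
    Points.map f (Points.ofPt a x) = Points.ofPt b (g.left x) := by
  rw [Points.map_ofPt, w, ofPt_map_comp]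

theorem Model.ptW {X Y : Space S} {f : X ⟶ Y} (M : Model f) (x : M.U.left) :
    Points.map f.hom (Points.ofPt M.a x) = Points.ofPt M.b (M.g.left x) := map_ofPt_of_w M.w x

theorem exists_factor_yon {F : Sp S} {U T : Over S} {a : (yon S).obj U ⟶ F} (ha : RepWith @IsOpenImmersion a)
    (a' : (yon S).obj T ⟶ F) (h : Set.range (Points.ofPt a') ⊆ Set.range (Points.ofPt a)) :
    ∃ k : T ⟶ U, (yon S).map k ≫ a = a' := by
  obtain ⟨k, hk⟩ := exists_factor_of_range ha a'
    (by rw [range_map_eq_range_ofPt, range_map_eq_range_ofPt]; exact h)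
  obtain ⟨k, rfl⟩ := (yon S).map_surjective k
  exact ⟨k, hk⟩

theorem exists_model {X Y : Space S} (f : X ⟶ Y) (hX : IsDecent X.obj) (hY : IsDecent Y.obj)
    (hXf : (irreducibleComponents (Points X.obj)).Finite) (hYf : (irreducibleComponents (Points Y.obj)).Finite)
    (hf : W4stk3decentspacesp2.IsBirational f.hom) : Nonempty (Model f) := by
  obtain ⟨U₀, a₀, ha₀, hmX⟩ := exists_schematic X hX
  obtain ⟨V, b, hb, hmY⟩ := exists_schematic Y hY
  have hea₀ := isOpenEmbedding_ofPt ha₀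
  have heb := isOpenEmbedding_ofPt hb
  let O : U₀.left.Opens := ⟨Points.ofPt a₀ ⁻¹' (Points.map f.hom ⁻¹' Set.range (Points.ofPt b)),
    (heb.isOpen_range.preimage (Points.continuous_map f.hom)).preimage hea₀.continuous⟩
  let U : Over S := Over.mk (O.ι ≫ U₀.hom)
  let ι : U ⟶ U₀ := Over.homMk O.ι rfl
  let a : (yon S).obj U ⟶ X.obj := (yon S).map ι ≫ a₀
  have ha : RepWith @IsOpenImmersion a :=
    repWith_comp ((repWith_yon_map_iff _ _).2 (show IsOpenImmersion O.ι from inferInstance)) ha₀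
  have hea := isOpenEmbedding_ofPt ha
  obtain ⟨g, hg⟩ := exists_factor_yon hb (a ≫ f.hom) (by
    rintro _ ⟨u, rfl⟩
    rw [← Points.map_ofPt, show Points.ofPt a u = Points.ofPt a₀ (O.ι u) from ofPt_map_comp ι a₀ u]
    exact u.2)
  have hw : a ≫ f.hom = (yon S).map g ≫ b := hg.symm
  have hpt := map_ofPt_of_w hw
  have hgX : genericPoints (Points X.obj) ⊆ Set.range (Points.ofPt a) := by
    intro x hx
    obtain ⟨U', V', a', b', g', u', ha', hb', w', hu', -⟩ := hf.stalkIso x hx
    obtain ⟨u₀, hu₀⟩ := hmX U' a' ha' ⟨u', hu'⟩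
    have hO : u₀ ∈ O := by
      show Points.map f.hom (Points.ofPt a₀ u₀) ∈ Set.range (Points.ofPt b)
      rw [hu₀, ← hu', map_ofPt_of_w w']
      exact hmY V' b' hb' ⟨_, rfl⟩
    exact ⟨⟨u₀, hO⟩, (ofPt_map_comp ι a₀ _).trans hu₀⟩
  have hgY : genericPoints (Points Y.obj) ⊆ Set.range (Points.ofPt b) := by
    intro y hy
    obtain ⟨x, hx, rfl⟩ := hf.bijOn.surjOn hy
    obtain ⟨u, rfl⟩ := hgX hx
    exact ⟨_, (hpt u).symm⟩
  have miX : ∀ u : U.left, u ∈ BiratDense12.maxPts U.left ↔ Points.ofPt a u ∈ genericPoints (Points X.obj) :=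
    fun u => mem_genericPoints_iff hea u
  have miY : ∀ v : V.left, v ∈ BiratDense12.maxPts V.left ↔ Points.ofPt b v ∈ genericPoints (Points Y.obj) :=
    fun v => mem_genericPoints_iff heb v
  refine ⟨⟨U, V, a, b, g, ha, hb, hw, hgX, hgY, finite_components_of_isOpenEmbedding hea hXf,
    finite_components_of_isOpenEmbedding heb hYf, ⟨?_, ?_, ?_⟩, ?_, hmY⟩⟩
  · intro u hu
    refine (miY _).2 ?_
    rw [← hpt]
    exact hf.bijOn.mapsTo ((miX u).1 hu)
  · intro u hu u' hu' e
    refine hea.injective (hf.bijOn.injOn ((miX u).1 hu) ((miX u').1 hu') ?_)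
    rw [hpt, hpt]
    exact congrArg (Points.ofPt b) e
  · intro v hv
    obtain ⟨x, hx, hxv⟩ := hf.bijOn.surjOn ((miY v).1 hv)
    obtain ⟨u, rfl⟩ := hgX hx
    exact ⟨u, (miX u).2 hx, heb.injective ((hpt u).symm.trans hxv)⟩
  · intro u hu
    obtain ⟨U', V', a', b', g', u', ha', hb', w', hu', hiso⟩ := hf.stalkIso _ ((miX u).1 hu)
    obtain ⟨l, hl⟩ := exists_factor_yon hb b' (hmY V' b' hb')
    have hlo : IsOpenImmersion l.left := isOpenImmersion_of_comp hb hb' l hl
    haveI hls := fun z => (IsOpenImmersion.iff_isIso_stalkMap.1 hlo).2 z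
    let P : U'.left.Opens := ⟨Points.ofPt a' ⁻¹' Set.range (Points.ofPt a),
      hea.isOpen_range.preimage (Points.continuous_ofPt a')⟩
    let T : Over S := Over.mk (P.ι ≫ U'.hom)
    let j : T ⟶ U' := Over.homMk P.ι rfl
    let t : (yon S).obj T ⟶ X.obj := (yon S).map j ≫ a'
    have ht : RepWith @IsOpenImmersion t :=
      repWith_comp ((repWith_yon_map_iff _ _).2 (show IsOpenImmersion P.ι from inferInstance)) ha'
    obtain ⟨k, hk⟩ := exists_factor_yon ha t (by
      rintro _ ⟨z, rfl⟩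
      rw [show Points.ofPt t z = Points.ofPt a' (P.ι z) from ofPt_map_comp j a' z]
      exact z.2)
    haveI : IsOpenImmersion k.left := isOpenImmersion_of_comp ha ht k hk
    have hP : u' ∈ P := ⟨u, hu'.symm⟩
    have hku : k.left ⟨u', hP⟩ = u := by
      refine hea.injective ?_
      rw [← ofPt_map_comp, hk, ← hu']
      exact ofPt_map_comp j a' _
    have e : k ≫ g = j ≫ g' ≫ l := by
      haveI := DistSq15.mono_of_openImm hb
      refine (yon S).map_injective ?_
      rw [← cancel_mono b, Functor.map_comp, Functor.map_comp, Functor.map_comp, Category.assoc,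
        Category.assoc, ← hw, ← Category.assoc, hk]
      show ((yon S).map j ≫ a') ≫ f.hom = _
      rw [Category.assoc, w', Category.assoc, hl]
    have h1 : IsIso ((P.ι ≫ g'.left ≫ l.left).stalkMap ⟨u', hP⟩) := by
      rw [Scheme.Hom.stalkMap_comp, Scheme.Hom.stalkMap_comp]
      haveI : IsIso (g'.left.stalkMap (P.ι ⟨u', hP⟩)) := hiso
      exact @IsIso.comp_isIso _ _ _ _ _ _ _ (@IsIso.comp_isIso _ _ _ _ _ _ _ (hls _) hiso) inferInstance
    have h2 : IsIso ((k.left ≫ g.left).stalkMap ⟨u', hP⟩) := by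
      have e' : k.left ≫ g.left = P.ι ≫ g'.left ≫ l.left := by
        rw [← Over.comp_left, e]; rfl
      rw [Scheme.Hom.stalkMap_congr_hom _ _ e']
      exact @IsIso.comp_isIso _ _ _ _ _ _ _ inferInstance h1
    rw [Scheme.Hom.stalkMap_comp] at h2
    have h3 : IsIso (g.left.stalkMap (k.left ⟨u', hP⟩)) :=
      @IsIso.of_isIso_comp_right _ _ _ _ _ _ (k.left.stalkMap ⟨u', hP⟩) inferInstance h2
    exact hku ▸ h3

theorem Model.locP {X Y : Space S} {f : X ⟶ Y} (M : Model f) {P : MorphismProperty Scheme.{u}}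
    (h : LocP P f.hom) : P M.g.left :=
  h M.a M.b M.g (repWith_etale_of_openImm M.ha) (repWith_etale_of_openImm M.hb) M.w

theorem Model.finType {X Y : Space S} {f : X ⟶ Y} (M : Model f)
    (h : (LocP @LocallyOfFiniteType f.hom ∧ EtaleLocally (fun T => IsReduced T) Y.obj) ∨
      LocP @LocallyOfFinitePresentation f.hom) :
    (LocallyOfFiniteType M.g.left ∧ IsReduced M.V.left) ∨ LocallyOfFinitePresentation M.g.left := by
  rcases h with ⟨h1, h2⟩ | h1
  · exact Or.inl ⟨M.locP h1, AlgSpDescent.prop_of_etale_chart AlgSpDescent.isReduced_up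
      AlgSpDescent.isReduced_down h2 (repWith_etale_of_openImm M.hb)⟩
  · exact Or.inr (M.locP h1)

/-- The restriction of an open chart to an open subscheme. -/
theorem restrict_chart {F : Sp S} {U : Over S} {a : (yon S).obj U ⟶ F} (ha : RepWith @IsOpenImmersion a)
    (W : U.left.Opens) :
    RepWith @IsOpenImmersion ((yon S).map (Over.homMk W.ι rfl : Over.mk (W.ι ≫ U.hom) ⟶ U) ≫ a) :=
  repWith_comp ((repWith_yon_map_iff _ _).2 (show IsOpenImmersion W.ι from inferInstance)) ha

theorem dense_restrict {F : Sp S} {U : Over S} {a : (yon S).obj U ⟶ F} [QuasiSober (Points F)]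
    (ha : RepWith @IsOpenImmersion a) (hg : genericPoints (Points F) ⊆ Set.range (Points.ofPt a))
    (W : U.left.Opens) (hW : BiratDense12.maxPts U.left ⊆ W) :
    Dense (Set.range (Points.ofPt ((yon S).map (Over.homMk W.ι rfl : Over.mk (W.ι ≫ U.hom) ⟶ U) ≫ a))) := by
  refine dense_of_genericPoints_subset fun x hx => ?_
  obtain ⟨u, rfl⟩ := hg hx
  exact ⟨⟨u, hW ((mem_genericPoints_iff (isOpenEmbedding_ofPt ha) u).2 hx)⟩, ofPt_map_comp _ a _⟩

theorem exists_dense_open_isIso {X Y : Space S} (f : X ⟶ Y) (hX : IsDecent X.obj) (hY : IsDecent Y.obj)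
    (hXf : (irreducibleComponents (Points X.obj)).Finite) (hYf : (irreducibleComponents (Points Y.obj)).Finite)
    (hf : W4stk3decentspacesp2.IsBirational f.hom)
    (h : (LocP @LocallyOfFiniteType f.hom ∧ EtaleLocally (fun T => IsReduced T) Y.obj) ∨
      LocP @LocallyOfFinitePresentation f.hom) :
    ∃ (U V : Over S) (a : (yon S).obj U ⟶ X.obj) (b : (yon S).obj V ⟶ Y.obj) (g : U ⟶ V),
      RepWith @IsOpenImmersion a ∧ RepWith @IsOpenImmersion b ∧
        Dense (Set.range (Points.ofPt a)) ∧ Dense (Set.range (Points.ofPt b)) ∧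
          a ≫ f.hom = (yon S).map g ≫ b ∧ IsIso g.left := by
  obtain ⟨M⟩ := exists_model f hX hY hXf hYf hf
  haveI := quasiSober_of_isDecent X.property hX
  haveI := quasiSober_of_isDecent Y.property hY
  obtain ⟨U₁, V₁, e, hU, hV, hi⟩ :=
    BiratDense12.exists_isIso_resLE M.g.left M.finU M.finV M.bij M.iso (M.finType h)
  let U' : Over S := Over.mk (U₁.ι ≫ M.U.hom)
  let V' : Over S := Over.mk (V₁.ι ≫ M.V.hom)
  let iU : U' ⟶ M.U := Over.homMk U₁.ι rfl
  let iV : V' ⟶ M.V := Over.homMk V₁.ι rfl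
  let g' : U' ⟶ V' := Over.homMk (M.g.left.resLE V₁ U₁ e) (by
    show M.g.left.resLE V₁ U₁ e ≫ V₁.ι ≫ M.V.hom = U₁.ι ≫ M.U.hom
    rw [Scheme.Hom.resLE_comp_ι_assoc, Over.w M.g])
  have e' : iU ≫ M.g = g' ≫ iV := Over.OverMorphism.ext (Scheme.Hom.resLE_comp_ι M.g.left e).symm
  refine ⟨U', V', (yon S).map iU ≫ M.a, (yon S).map iV ≫ M.b, g', restrict_chart M.ha U₁,
    restrict_chart M.hb V₁, dense_restrict M.ha M.genX U₁ hU, dense_restrict M.hb M.genY V₁ hV, ?_, hi⟩
  rw [Category.assoc, M.w, ← Category.assoc, ← Functor.map_comp, e', Functor.map_comp, Category.assoc]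

end Groth.Agent.AlgSpBirat4
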