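import Groth.Agent.Lib.AlgSpBirat4.BaseChange
import Groth.Agent.Lib.AlgSpace.ImmDescent
import Groth.Agent.Lib.AlgSpDescent.RedNoeth
import Groth.Agent.Lib.LimH13.Birat

/-!
# Integral birational morphisms to normal spaces
-/

set_option autoImplicit false
set_option backward.isDefEq.respectTransparency.types false

universe u

open CategoryTheory CategoryTheory.Limits AlgebraicGeometry AlgSp Topology
open Groth.Agent.AlgSpace Groth.Agent.AlgSpDecent

namespace Groth.Agent.AlgSpBirat4

open BiratDense12 in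
theorem eq_of_specializes_of_isDomain {O : Scheme.{u}} {x g g' : O} [IsDomain (O.presheaf.stalk x)]
    (hg : g ∈ maxPts O) (hg' : g' ∈ maxPts O) (h : g ⤳ x) (h' : g' ⤳ x) : g = g' := by
  let η : Spec (O.presheaf.stalk x) := (⟨⊥, Ideal.isPrime_bot⟩ : PrimeSpectrum (O.presheaf.stalk x))
  have key : ∀ p : O, p ∈ maxPts O → p ⤳ x → O.fromSpecStalk x η = p := fun p hp hpx => by
    obtain ⟨q, hq⟩ := (O.range_fromSpecStalk (x := x)).superset hpx
    refine eq_of_specializes hp ?_
    rw [← hq]
    exact Specializes.map ((PrimeSpectrum.le_iff_specializes η q).1 bot_le) (O.fromSpecStalk x).continuous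
  exact (key g hg h).symm.trans (key g' hg' h')

open BiratDense12 in
theorem isIso_of_integralHom_normal {W O : Scheme.{u}} (i : W ⟶ O) [IsIntegralHom i] [IsReduced W]
    (hO : (irreducibleComponents ↥O).Finite)
    (hn : ∀ t : O, IsDomain (O.presheaf.stalk t) ∧ IsIntegrallyClosed (O.presheaf.stalk t))
    (hbij : Set.BijOn (fun x => i x) (maxPts W) (maxPts O))
    (hiso : ∀ x ∈ maxPts W, IsIso (i.stalkMap x)) : IsIso i := by
  haveI : ∀ t : O, IsDomain (O.presheaf.stalk t) := fun t => (hn t).1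
  haveI : IsReduced O := isReduced_of_isReduced_stalk O
  change MorphismProperty.isomorphisms Scheme i
  refine IsZariskiLocalAtTarget.of_iSup_eq_top (fun v : maxPts O => sole hO v.1) ?_ fun v => ?_
  · refine eq_top_iff.2 fun t _ => ?_
    obtain ⟨g, hg, hgt⟩ := exists_mem_maxPts t
    exact TopologicalSpace.Opens.mem_iSup.2 ⟨⟨g, hg⟩, (mem_sole_iff hO g t).2
      fun g' hg' h' => eq_of_specializes_of_isDomain hg' hg h' hgt⟩
  obtain ⟨v, hv⟩ := v
  obtain ⟨u, hu, huv⟩ := hbij.surjOn hv
  let U := sole hO v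
  have hvU : v ∈ U := mem_sole_self hO hv
  have hUgen : IsGenericPoint (⟨v, hvU⟩ : U) (Set.univ : Set U) := by
    refine isGenericPoint_iff_specializes.2 fun y => ⟨fun _ => trivial, fun _ => ?_⟩
    obtain ⟨g, hg, hgy⟩ := exists_mem_maxPts y.1
    obtain rfl := (mem_sole_iff hO v y.1).1 y.2 g hg hgy
    exact (subtype_specializes_iff _ _).2 hgy
  have huU : u ∈ i ⁻¹ᵁ U := by show i u ∈ U; rw [show i u = v from huv]; exact hvU
  have hWgen : IsGenericPoint (⟨u, huU⟩ : (i ⁻¹ᵁ U).toScheme) Set.univ := by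
    refine isGenericPoint_iff_specializes.2 fun y => ⟨fun _ => trivial, fun _ => ?_⟩
    obtain ⟨g, hg, hgy⟩ := exists_mem_maxPts y.1
    have h1 : i g = v := (mem_sole_iff hO v (i y.1)).1 y.2 (i g) (hbij.mapsTo hg) (hgy.map i.continuous)
    obtain rfl : g = u := hbij.injOn hg hu (h1.trans huv.symm)
    exact (subtype_specializes_iff _ _).2 hgy
  haveI : IrreducibleSpace U.toScheme :=
    (irreducibleSpace_def _).2 hUgen.isIrreducible
  haveI : IrreducibleSpace (i ⁻¹ᵁ U).toScheme :=
    (irreducibleSpace_def _).2 hWgen.isIrreducible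
  haveI : IsIntegral U.toScheme := isIntegral_of_irreducibleSpace_of_isReduced _
  haveI : IsIntegral (i ⁻¹ᵁ U).toScheme := isIntegral_of_irreducibleSpace_of_isReduced _
  haveI : IsIntegralHom (i ∣_ U) := IsZariskiLocalAtTarget.restrict ‹_› U
  have e1 : genericPoint U.toScheme = (⟨v, hvU⟩ : U) := (genericPoint_spec U.toScheme).eq hUgen
  have e2 : genericPoint (i ⁻¹ᵁ U).toScheme = (⟨u, huU⟩ : (i ⁻¹ᵁ U).toScheme) :=
    (genericPoint_spec (i ⁻¹ᵁ U).toScheme).eq hWgen
  refine LimH13.isIso_of_integral_birational (fun y => ?_) (i ∣_ U) ?_ ?_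
  · haveI := (hn y.1).2
    exact IsIntegrallyClosed.of_equiv (U.stalkIso y).commRingCatIsoToRingEquiv.symm
  · rw [e1, e2]; exact Subtype.ext ((morphismRestrict_base_coe i U _).trans huv)
  · rw [e2]
    exact ((MorphismProperty.isomorphisms CommRingCat).arrow_mk_iso_iff (morphismRestrictStalkMap i U _)).2
      (hiso u hu)

variable {S : Scheme.{u}}

theorem scheme_birational {W O : Over S} (i : W ⟶ O)
    (h : W4stk3decentspacesp2.IsBirational ((yon S).map i)) :
    Set.BijOn (fun x => i.left x) (BiratDense12.maxPts W.left) (BiratDense12.maxPts O.left) ∧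
      ∀ x ∈ BiratDense12.maxPts W.left, IsIso (i.left.stalkMap x) := by
  have hW : RepWith @IsOpenImmersion (𝟙 ((yon S).obj W)) := repWith_id _ W
  have hO : RepWith @IsOpenImmersion (𝟙 ((yon S).obj O)) := repWith_id _ O
  have eW := isOpenEmbedding_ofPt hW
  have eO := isOpenEmbedding_ofPt hO
  have pt : ∀ x : W.left, Points.map ((yon S).map i) (Points.ofPt (𝟙 _) x) = Points.ofPt (𝟙 _) (i.left x) :=
    fun x => map_ofPt_of_w (by rw [Category.id_comp, Category.comp_id]) x
  refine ⟨⟨fun x hx => ?_, fun x hx x' hx' e => ?_, fun y hy => ?_⟩, fun x hx => ?_⟩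
  · refine (mem_genericPoints_iff eO _).2 ?_
    rw [← pt]; exact h.bijOn.mapsTo ((mem_genericPoints_iff eW x).1 hx)
  · refine eW.injective (h.bijOn.injOn ((mem_genericPoints_iff eW x).1 hx) ((mem_genericPoints_iff eW x').1 hx') ?_)
    rw [pt, pt]; exact congrArg (Points.ofPt _) e
  · obtain ⟨p, hp, hpy⟩ := h.bijOn.surjOn ((mem_genericPoints_iff eO y).1 hy)
    obtain ⟨x, rfl⟩ := (Points.schemeEquiv W).surjective p
    exact ⟨x, (mem_genericPoints_iff eW x).2 hp, eO.injective ((pt x).symm.trans hpy)⟩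
  · obtain ⟨U', V', a', b', g', u', ha', hb', w', hu', hiso⟩ := h.stalkIso _ ((mem_genericPoints_iff eW x).1 hx)
    obtain ⟨α, rfl⟩ := (yon S).map_surjective a'
    obtain ⟨β, rfl⟩ := (yon S).map_surjective b'
    have hα : IsOpenImmersion α.left := (repWith_yon_map_iff _ _).1 ha'
    have hβ : IsOpenImmersion β.left := (repWith_yon_map_iff _ _).1 hb'
    have e : α.left ≫ i.left = g'.left ≫ β.left := by
      rw [← Over.comp_left, ← Over.comp_left, (yon S).map_injective (show (yon S).map (α ≫ i) = (yon S).map (g' ≫ β) by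
        rw [Functor.map_comp, Functor.map_comp]; exact w')]
    have hx' : α.left u' = x := eW.injective (by rw [← hu', ← ofPt_map_comp, Category.comp_id])
    have h2 : IsIso ((α.left ≫ i.left).stalkMap u') := by
      rw [Scheme.Hom.stalkMap_congr_hom _ _ e]
      refine @IsIso.comp_isIso _ _ _ _ _ _ _ inferInstance ?_
      rw [Scheme.Hom.stalkMap_comp]
      exact @IsIso.comp_isIso _ _ _ _ _ _ _ ((IsOpenImmersion.iff_isIso_stalkMap.1 hβ).2 _) hiso
    rw [Scheme.Hom.stalkMap_comp] at h2
    exact hx' ▸ @IsIso.of_isIso_comp_right _ _ _ _ _ _ (α.left.stalkMap u')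
      ((IsOpenImmersion.iff_isIso_stalkMap.1 hα).2 _) h2

theorem isIso_of_isIntegralMor {X Y : Space S} (f : X ⟶ Y) (hX : IsDecent X.obj) (hY : IsDecent Y.obj)
    (hXf : (irreducibleComponents (Points X.obj)).Finite) (hYf : (irreducibleComponents (Points Y.obj)).Finite)
    (hi : IsIntegralMor f.hom) (hf : W4stk3decentspacesp2.IsBirational f.hom)
    (hYn : EtaleLocally (fun T => ∀ t : ↥T, IsDomain ↥(T.presheaf.stalk t) ∧
      IsIntegrallyClosed ↥(T.presheaf.stalk t)) Y.obj)
    (hXr : EtaleLocally (fun T => IsReduced T) X.obj) : IsIso f.hom := by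
  obtain ⟨V, p, hp, hps, hn⟩ := hYn
  have hr := isIntegralMor_iff_repWith.1 hi
  obtain ⟨W, i, fst, sq⟩ := hr.1 p
  haveI : IsIntegralHom i.left := hr.2 p _ _ sq
  have hfst : RepWith @Etale fst := repWith_of_isPullback sq.flip hp
  haveI : IsReduced W.left :=
    AlgSpDescent.prop_of_etale_chart AlgSpDescent.isReduced_up AlgSpDescent.isReduced_down hXr hfst
  have hiso : IsIso i.left := by
    change MorphismProperty.isomorphisms Scheme i.left
    refine IsZariskiLocalAtTarget.of_iSup_eq_top (fun O : V.left.affineOpens => O.1)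
      (iSup_affineOpens_eq_top _) fun O => ?_
    let OV : Over S := Over.mk (O.1.ι ≫ V.hom)
    let o : OV ⟶ V := Over.homMk O.1.ι rfl
    let WO : Over S := Over.mk ((i.left ⁻¹ᵁ O.1).ι ≫ W.hom)
    let j : WO ⟶ W := Over.homMk (i.left ⁻¹ᵁ O.1).ι rfl
    let k : WO ⟶ OV := Over.homMk (i.left ∣_ O.1) (by
      show (i.left ∣_ O.1) ≫ O.1.ι ≫ V.hom = (i.left ⁻¹ᵁ O.1).ι ≫ W.hom
      rw [morphismRestrict_ι_assoc, Over.w i])
    haveI : IsAffine OV.left := O.2
    have hsq : IsPullback j k i o := IsPullback.of_map (Over.forget S)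
      (Over.OverMorphism.ext (morphismRestrict_ι i.left O.1).symm) (isPullback_morphismRestrict i.left O.1).flip
    have big := (hsq.map (yon S)).paste_horiz sq
    have hbr := (baseChange f hX hY hXf hYf hf ((yon S).map o ≫ p) (repWith_etale_restrict hp O.1) _ _ big).2
    obtain ⟨hb1, hb2⟩ := scheme_birational k hbr.2.2.2
    haveI : IsOpenImmersion j.left := inferInstanceAs (IsOpenImmersion (i.left ⁻¹ᵁ O.1).ι)
    haveI : IsReduced WO.left := isReduced_of_isOpenImmersion j.left
    haveI : IsIntegralHom k.left := IsZariskiLocalAtTarget.restrict ‹IsIntegralHom i.left› O.1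
    have hnO : ∀ t : OV.left, IsDomain (OV.left.presheaf.stalk t) ∧ IsIntegrallyClosed (OV.left.presheaf.stalk t) := by
      intro t
      haveI := (hn (O.1.ι t)).1
      haveI := (hn (O.1.ι t)).2
      let e := (asIso (O.1.ι.stalkMap t)).commRingCatIsoToRingEquiv
      exact ⟨e.symm.toMulEquiv.isDomain, IsIntegrallyClosed.of_equiv e⟩
    exact isIso_of_integralHom_normal k.left
      (finite_components_of_isOpenEmbedding (f := Points.ofPt (𝟙 ((yon S).obj OV)))
        (isOpenEmbedding_ofPt (repWith_id _ OV)) hbr.2.2.1) hnO hb1 hb2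
  haveI : IsIso ((Over.forget S).map i) := hiso
  haveI : IsIso i := isIso_of_reflects_iso i (Over.forget S)
  exact isIso_of_etale_cover f.hom p hp hps sq

end Groth.Agent.AlgSpBirat4
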