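import Groth.Agent.Lib.AlgSpBirat4.Fibre
import Groth.Agent.Lib.AlgSpDecent.FiniteGeneric
import Groth.Agent.Lib.GeomRedOpen27.Constr
import Groth.Agent.Lib.H12.SchLoc

/-!
# A birational morphism is an isomorphism over a dense open subscheme
-/

set_option autoImplicit false
set_option backward.isDefEq.respectTransparency.types false

universe u

open CategoryTheory CategoryTheory.Limits AlgebraicGeometry AlgSp Topology
open Groth.Agent.AlgSpace Groth.Agent.AlgSpDecent

namespace Groth.Agent.AlgSpBirat4

variable {S : Scheme.{u}}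

/-- A section over an open subscheme of a separated morphism has closed image. -/
theorem isClosed_range_lift {X Y : Sp S} {f : X ⟶ Y} (hsep : IsSeparatedMor f) {Z P : Sp S} {fst : P ⟶ X}
    {snd : P ⟶ Z} {b : Z ⟶ Y} (hP : IsPullback fst snd f b) (σ : Z ⟶ P) (hσ : σ ≫ snd = 𝟙 Z) :
    IsClosed (Set.range (Points.map σ)) := by
  let s := σ ≫ fst
  have hs : s ≫ f = b := by rw [Category.assoc, hP.w, ← Category.assoc, hσ, Category.id_comp]
  let h : P ⟶ pullback f f := pullback.lift fst (snd ≫ s) (by rw [Category.assoc, hs, hP.w])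
  have hw : s ≫ pullback.diagonal f = σ ≫ h := pullback.hom_ext
    (by simp only [Category.assoc, h, s, pullback.lift_fst, pullback.diagonal_fst, Category.comp_id])
    (by simp only [Category.assoc, h, s, pullback.lift_snd, pullback.diagonal_snd, Category.comp_id,
      reassoc_of% hσ])
  haveI : Mono σ := mono_of_mono_fac hσ
  have sq : IsPullback s σ (pullback.diagonal f) h := by
    refine IsPullback.of_isLimit' ⟨hw⟩ (PullbackCone.IsLimit.mk _ (fun t => t.snd ≫ snd) (fun t => ?_) (fun t => ?_)
      (fun t m h1 h2 => by rw [← h2, Category.assoc, hσ, Category.comp_id]))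
    all_goals
      have e1 := congrArg (· ≫ pullback.fst f f) t.condition
      have e2 := congrArg (· ≫ pullback.snd f f) t.condition
      simp only [Category.assoc, pullback.diagonal_fst, pullback.diagonal_snd, Category.comp_id] at e1 e2
      simp only [h, pullback.lift_fst, pullback.lift_snd] at e1 e2
    · rw [e2, Category.assoc]
    · refine hP.hom_ext ?_ (by rw [Category.assoc, hσ, Category.comp_id])
      rw [← e1, e2]
      simp [s]
  exact isClosed_range_map_of_universallyClosed
    (repWith_mono (fun _ _ q (_ : IsClosedImmersion q) => (inferInstance : UniversallyClosed q))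
      (repWith_of_isPullback sq hsep))

theorem exists_pullback_open {X Y : Space S} (f : X ⟶ Y) (hX : IsDecent X.obj) (hY : IsDecent Y.obj)
    (hXf : (irreducibleComponents (Points X.obj)).Finite) (hYf : (irreducibleComponents (Points Y.obj)).Finite)
    (hf : W4stk3decentspacesp2.IsBirational f.hom) (h₁ : IsQuasiCompactMor f.hom ∨ IsSeparatedMor f.hom)
    (h₂ : (LocP @LocallyOfFiniteType f.hom ∧ EtaleLocally (fun T => IsReduced T) Y.obj) ∨
      LocP @LocallyOfFinitePresentation f.hom) :
    ∃ (V : Over S) (b : (yon S).obj V ⟶ Y.obj), RepWith @IsOpenImmersion b ∧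
      Dense (Set.range (Points.ofPt b)) ∧
        ∀ ⦃P : Sp S⦄ (fst : P ⟶ X.obj) (snd : P ⟶ (yon S).obj V),
          IsPullback fst snd f.hom b → IsIso snd := by
  obtain ⟨M⟩ := exists_model f hX hY hXf hYf hf
  haveI := quasiSober_of_isDecent X.property hX
  haveI := quasiSober_of_isDecent Y.property hY
  haveI := t0Space_of_finFibres Y.property (finFibres_of_isDecent Y.property.diag hY)
  obtain ⟨U₁, V₁, e, hU, hV, hi⟩ :=
    BiratDense12.exists_isIso_resLE M.g.left M.finU M.finV M.bij M.iso (M.finType h₂)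
  let U' : Over S := Over.mk (U₁.ι ≫ M.U.hom)
  let V' : Over S := Over.mk (V₁.ι ≫ M.V.hom)
  let iU : U' ⟶ M.U := Over.homMk U₁.ι rfl
  let iV : V' ⟶ M.V := Over.homMk V₁.ι rfl
  let g' : U' ⟶ V' := Over.homMk (M.g.left.resLE V₁ U₁ e) (by
    show M.g.left.resLE V₁ U₁ e ≫ V₁.ι ≫ M.V.hom = U₁.ι ≫ M.U.hom
    rw [Scheme.Hom.resLE_comp_ι_assoc, Over.w M.g])
  have e' : iU ≫ M.g = g' ≫ iV := Over.OverMorphism.ext (Scheme.Hom.resLE_comp_ι M.g.left e).symm
  let a' := (yon S).map iU ≫ M.a
  let b' := (yon S).map iV ≫ M.b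
  have ha' : RepWith @IsOpenImmersion a' := restrict_chart M.ha U₁
  have hb' : RepWith @IsOpenImmersion b' := restrict_chart M.hb V₁
  have w' : a' ≫ f.hom = (yon S).map g' ≫ b' := by
    rw [Category.assoc, M.w, ← Category.assoc, ← Functor.map_comp, e', Functor.map_comp, Category.assoc]
  haveI : IsIso ((Over.forget S).map g') := hi
  haveI : IsIso g' := isIso_of_reflects_iso g' (Over.forget S)
  haveI := DistSq15.mono_of_openImm ha'
  haveI := DistSq15.mono_of_openImm hb'
  have hgX : genericPoints (Points X.obj) ⊆ Set.range (Points.ofPt a') := fun x hx => by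
    obtain ⟨u, rfl⟩ := M.genX hx
    exact ⟨⟨u, hU ((mem_genericPoints_iff (isOpenEmbedding_ofPt M.ha) u).2 hx)⟩, ofPt_map_comp iU M.a _⟩
  have hgY : genericPoints (Points Y.obj) ⊆ Set.range (Points.ofPt b') := fun y hy => by
    obtain ⟨v, rfl⟩ := M.genY hy
    exact ⟨⟨v, hV ((mem_genericPoints_iff (isOpenEmbedding_ofPt M.hb) v).2 hy)⟩, ofPt_map_comp iV M.b _⟩
  -- every generic point has a neighbourhood whose preimage lies in the source chart
  have hnbd : ∀ y ∈ genericPoints (Points Y.obj), ∃ N : Set (Points Y.obj), IsOpen N ∧ y ∈ N ∧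
      N ⊆ Set.range (Points.ofPt b') ∧ Points.map f.hom ⁻¹' N ⊆ Set.range (Points.ofPt a') := by
    intro y hy
    rcases h₁ with hqc | hsep
    · obtain ⟨v, rfl⟩ := hgY hy
      obtain ⟨O, hO, hvO, -⟩ := exists_isAffineOpen_mem_and_subset (X := V'.left) (x := v) (U := ⊤) trivial
      let T : Over S := Over.mk (O.ι ≫ V'.hom)
      let o : T ⟶ V' := Over.homMk O.ι rfl
      let c : (yon S).obj T ⟶ Y.obj := (yon S).map o ≫ b'
      haveI : IsAffine T.left := hO
      have sq := IsPullback.of_hasPullback f.hom c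
      obtain ⟨W, p, -, hps, hWc⟩ := hqc (IsAlgSpace.yon_obj T) (GeomRedOpen27.isQuasiCompactSp_yon T) c _ _ sq
      obtain ⟨k, hk⟩ := (yon S).map_surjective (p ≫ pullback.snd f.hom c)
      haveI : CompactSpace ↥W.left := hWc
      haveI : QuasiCompact k.left := HasAffineProperty.iff_of_isAffine.mpr hWc
      let C : Set ↥W.left := Points.ofPt (p ≫ pullback.fst f.hom c) ⁻¹' (Set.range (Points.ofPt a'))ᶜ
      have hC : IsClosed C :=
        ((isOpenEmbedding_ofPt ha').isOpen_range.isClosed_compl).preimage (Points.continuous_ofPt _)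
      let J : W.left.IdealSheafData := Scheme.IdealSheafData.vanishingIdeal ⟨C, hC⟩
      have hJ : Set.range J.subschemeι = C := by
        rw [Scheme.IdealSheafData.range_subschemeι, Scheme.IdealSheafData.coe_support_vanishingIdeal]
        rfl
      have hkw : ∀ z, Points.map f.hom (Points.ofPt (p ≫ pullback.fst f.hom c) z) = Points.ofPt c (k.left z) := by
        intro z
        rw [Points.map_ofPt, Category.assoc, sq.w, ← Category.assoc, ← hk, ofPt_map_comp]
      have hv : (⟨v, hvO⟩ : O.toScheme) ∉ closure (Set.range (J.subschemeι ≫ k.left)) := fun hmem => by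
        obtain ⟨t, ht⟩ := H12.exists_specializes_of_mem_closure_range (J.subschemeι ≫ k.left) _ hmem
        have ht' : Points.ofPt c (k.left (J.subschemeι t)) = Points.ofPt b' v := by
          refine eq_of_specializes_genericPoint hy ?_
          have hcv : Points.ofPt c (⟨v, hvO⟩ : O.toScheme) = Points.ofPt b' v := ofPt_map_comp o b' _
          exact hcv ▸ ht.map (Points.continuous_ofPt c)
        have hgen : Points.ofPt (p ≫ pullback.fst f.hom c) (J.subschemeι t) ∈ genericPoints (Points X.obj) :=
          M.mem_genericPoints hX hY hf (by rw [hkw, ht']; exact hy)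
        exact (hJ.subset ⟨t, rfl⟩ : J.subschemeι t ∈ C) (hgX hgen)
      have hec := isOpenEmbedding_ofPt (restrict_chart hb' O)
      refine ⟨Points.ofPt c '' (closure (Set.range (J.subschemeι ≫ k.left)))ᶜ,
        hec.isOpenMap _ isClosed_closure.isOpen_compl, ⟨_, hv, ofPt_map_comp o b' _⟩, ?_, ?_⟩
      · rintro _ ⟨z, -, rfl⟩
        exact ⟨o.left z, (ofPt_map_comp o b' _).symm⟩
      · rintro x ⟨t, ht, htx⟩
        by_contra hx
        obtain ⟨q, hq₁, hq₂⟩ := exists_point_lift sq x (Points.ofScheme T t)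
          (by rw [← Points.ofPt_eq_map_ofScheme]; exact htx.symm)
        obtain ⟨z, rfl⟩ := surjective_ofPt hps q
        rw [Points.map_ofPt] at hq₁ hq₂
        rw [← hk, ofPt_map_eq] at hq₂
        have hzt : k.left z = t := (Points.schemeEquiv T).injective hq₂
        obtain ⟨j, hj⟩ := hJ.superset (show z ∈ C from fun hz => hx (hq₁ ▸ hz))
        exact ht (subset_closure ⟨j, by rw [Scheme.Hom.comp_apply, hj, hzt]⟩)
    · refine ⟨_, (isOpenEmbedding_ofPt hb').isOpen_range, hgY hy, le_rfl, ?_⟩
      rintro x ⟨v, hvx⟩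
      have sq := IsPullback.of_hasPullback f.hom b'
      let σ : (yon S).obj V' ⟶ pullback f.hom b' := sq.lift ((yon S).map (inv g') ≫ a') (𝟙 _) (by
        rw [Category.assoc, w', ← Category.assoc, ← Functor.map_comp, IsIso.inv_hom_id, CategoryTheory.Functor.map_id,
          Category.id_comp])
      have hσ := isClosed_range_lift hsep sq σ (sq.lift_snd _ _ _)
      obtain ⟨q, hq₁, -⟩ := exists_point_lift sq x (Points.ofScheme V' v)
        (by rw [← Points.ofPt_eq_map_ofScheme]; exact hvx.symm)
      obtain ⟨g₀, hg₀, hgx⟩ := exists_genericPoint_specializes x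
      have hj : RepWith @IsOpenImmersion (pullback.fst f.hom b') := repWith_of_isPullback sq.flip hb'
      have hje := (isEmbedding_map_of_immersion X.property (repWith_mono
        (fun _ _ z (_ : IsOpenImmersion z) => (inferInstance : IsImmersion z)) hj)).1
      obtain ⟨u, hu⟩ := hgX hg₀
      have hσu : Points.map (pullback.fst f.hom b') (Points.map σ (Points.ofScheme V' (g'.left u))) = g₀ := by
        rw [← Points.map_comp, sq.lift_fst, ← Points.ofPt_eq_map_ofScheme, ← ofPt_map_comp, ← Category.assoc,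
          ← Functor.map_comp, IsIso.hom_inv_id, CategoryTheory.Functor.map_id, Category.id_comp, hu]
      have hsp : Points.map σ (Points.ofScheme V' (g'.left u)) ⤳ q :=
        hje.isInducing.specializes_iff.1 (by rw [hσu, hq₁]; exact hgx)
      obtain ⟨r, hr⟩ := hsp.mem_closed hσ ⟨_, rfl⟩
      obtain ⟨r, rfl⟩ := (Points.schemeEquiv V').surjective r
      refine ⟨(inv g').left r, ?_⟩
      rw [← hq₁, ← hr, ← Points.map_comp, sq.lift_fst, ← ofPt_map_comp]
      exact Points.ofPt_eq_map_ofScheme _ r
  choose N hN hyN hNb hNa using hnbd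
  let W : V'.left.Opens := ⟨Points.ofPt b' ⁻¹' (⋃ (y) (hy : y ∈ genericPoints (Points Y.obj)), N y hy),
    (isOpen_iUnion fun y => isOpen_iUnion fun hy => hN y hy).preimage (Points.continuous_ofPt b')⟩
  let V : Over S := Over.mk (W.ι ≫ V'.hom)
  let iW : V ⟶ V' := Over.homMk W.ι rfl
  refine ⟨V, (yon S).map iW ≫ b', restrict_chart hb' W, dense_of_genericPoints_subset fun y hy => ?_, ?_⟩
  · obtain ⟨v, hv⟩ := hgY hy
    exact ⟨⟨v, Set.mem_iUnion₂.2 ⟨y, hy, hv ▸ hyN y hy⟩⟩, (ofPt_map_comp iW b' _).trans hv⟩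
  intro P fst snd hP
  obtain ⟨k, hk⟩ := exists_factor_of_range ha' fst (by
    rintro _ ⟨q, rfl⟩
    rw [range_map_eq_range_ofPt]
    obtain ⟨t, ht⟩ := (Points.schemeEquiv V).surjective (Points.map snd q)
    obtain ⟨y, hy, hty⟩ := Set.mem_iUnion₂.1 t.2
    refine hNa y hy ?_
    rw [Set.mem_preimage, ← Points.map_comp, hP.w, Points.map_comp, ← ht]
    show Points.map _ (Points.ofScheme V t) ∈ _
    rw [← Points.ofPt_eq_map_ofScheme, ofPt_map_comp]
    exact hty)
  have hw : k ≫ (yon S).map g' = snd ≫ (yon S).map iW := by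
    rw [← cancel_mono b', Category.assoc, ← w', ← Category.assoc, hk, hP.w, Category.assoc]
  have hsq : IsPullback k snd ((yon S).map g') ((yon S).map iW) := by
    have hlim : ∀ s : PullbackCone ((yon S).map g') ((yon S).map iW),
        (s.fst ≫ a') ≫ f.hom = s.snd ≫ (yon S).map iW ≫ b' := fun s => by
      rw [Category.assoc, w', ← Category.assoc, s.condition, Category.assoc]
    refine IsPullback.of_isLimit' ⟨hw⟩ (PullbackCone.IsLimit.mk _
      (fun s => hP.lift (s.fst ≫ a') s.snd (hlim s)) (fun s => ?_) (fun s => hP.lift_snd _ _ _)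
      (fun s m h1 h2 => hP.hom_ext ?_ ?_))
    · rw [← cancel_mono a', Category.assoc, hk]
      exact hP.lift_fst _ _ _
    · rw [hP.lift_fst, ← hk, ← Category.assoc, h1]
    · rw [hP.lift_snd, h2]
  exact MorphismProperty.of_isPullback (P := MorphismProperty.isomorphisms _) hsq
    (MorphismProperty.isomorphisms.infer_property _)

end Groth.Agent.AlgSpBirat4
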