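import Groth.Agent.Lib.AlgSpBirat4.Fibre
import Groth.Agent.S9677

/-!
# Base change to the local ring of a generic point
-/

set_option autoImplicit false
set_option backward.isDefEq.respectTransparency.types false

universe u

open CategoryTheory CategoryTheory.Limits AlgebraicGeometry AlgSp Topology
open Groth.Agent.AlgSpace Groth.Agent.AlgSpDecent

namespace Groth.Agent.AlgSpBirat4

variable {S : Scheme.{u}}

theorem isIso_snd_comp {X Y T T' : Scheme.{u}} (f : X ⟶ Y) (m : T ⟶ Y) (i : T' ⟶ T)
    [IsIso (pullback.snd f m)] : IsIso (pullback.snd f (i ≫ m)) := by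
  let κ : pullback f (i ≫ m) ⟶ pullback f m :=
    pullback.lift (pullback.fst _ _) (pullback.snd _ _ ≫ i) (by rw [pullback.condition, Category.assoc])
  have h1 : IsPullback (κ ≫ pullback.fst f m) (pullback.snd f (i ≫ m)) f (i ≫ m) := by
    rw [pullback.lift_fst]; exact IsPullback.of_hasPullback _ _
  exact MorphismProperty.of_isPullback (P := MorphismProperty.isomorphisms _)
    (IsPullback.of_right h1 (pullback.lift_snd _ _ _) (IsPullback.of_hasPullback f m))
    (MorphismProperty.isomorphisms.infer_property _)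

theorem isIso_baseChange_stalk {X Y : Space S} (f : X ⟶ Y) (hX : IsDecent X.obj) (hY : IsDecent Y.obj)
    (hXf : (irreducibleComponents (Points X.obj)).Finite) (hYf : (irreducibleComponents (Points Y.obj)).Finite)
    (hf : W4stk3decentspacesp2.IsBirational f.hom) {V : Over S} (b : (yon S).obj V ⟶ Y.obj)
    (hb : RepWith @IsOpenImmersion b) (v : ↥V.left)
    (hv : Points.ofPt b v ∈ genericPoints (Points Y.obj)) {P : Sp S} (fst : P ⟶ X.obj)
    (snd : P ⟶ (yon S).obj (Over.mk (V.left.fromSpecStalk v ≫ V.hom)))
    (hP : IsPullback fst snd f.hom ((yon S).map (Over.homMk (V.left.fromSpecStalk v) rfl) ≫ b)) :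
    IsIso snd := by
  obtain ⟨M⟩ := exists_model f hX hY hXf hYf hf
  haveI := DistSq15.mono_of_openImm M.ha
  haveI := DistSq15.mono_of_openImm M.hb
  haveI := t0Space_of_finFibres Y.property (finFibres_of_isDecent Y.property.diag hY)
  let T : Over S := Over.mk (V.left.fromSpecStalk v ≫ V.hom)
  let σ : T ⟶ V := Over.homMk (V.left.fromSpecStalk v) rfl
  obtain ⟨l, hl⟩ := exists_factor_yon M.hb b (M.schY V b hb)
  haveI : IsOpenImmersion l.left := isOpenImmersion_of_comp M.hb hb l hl
  have hT : ∀ t : T.left, Points.ofPt b (σ.left t) = Points.ofPt b v := fun t => by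
    refine eq_of_specializes_genericPoint hv (Specializes.map ?_ (Points.continuous_ofPt b))
    exact (V.left.range_fromSpecStalk (x := v)).subset ⟨t, rfl⟩
  have hrange : Set.range (Points.map fst) ⊆ Set.range (Points.map M.a) := by
    rintro _ ⟨p, rfl⟩
    rw [range_map_eq_range_ofPt]
    refine M.mem_range hX hY hf ?_
    rw [← Points.map_comp, hP.w, Points.map_comp]
    obtain ⟨t, ht⟩ := (Points.schemeEquiv T).surjective (Points.map snd p)
    rw [← ht]
    show Points.map _ (Points.ofScheme T t) ∈ _
    rw [← Points.ofPt_eq_map_ofScheme, ofPt_map_comp, hT]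
    exact hv
  obtain ⟨k, hk⟩ := exists_factor_of_range M.ha fst hrange
  let e : T ⟶ M.V := σ ≫ l
  have hsq : IsPullback k snd ((yon S).map M.g) ((yon S).map e) := by
    have hw : k ≫ (yon S).map M.g = snd ≫ (yon S).map e := by
      rw [← cancel_mono M.b, Category.assoc, ← M.w, ← Category.assoc, hk, hP.w, Category.assoc,
        Functor.map_comp, Category.assoc, hl]
    have hlim : ∀ s : PullbackCone ((yon S).map M.g) ((yon S).map e),
        (s.fst ≫ M.a) ≫ f.hom = s.snd ≫ (yon S).map σ ≫ b := fun s => by
      rw [Category.assoc, M.w, ← Category.assoc, s.condition, Category.assoc]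
      exact congrArg (s.snd ≫ ·) (by simp only [e, Functor.map_comp, Category.assoc, hl])
    refine IsPullback.of_isLimit' ⟨hw⟩ (PullbackCone.IsLimit.mk _
      (fun s => hP.lift (s.fst ≫ M.a) s.snd (hlim s)) (fun s => ?_) (fun s => hP.lift_snd _ _ _)
      (fun s m h1 h2 => hP.hom_ext ?_ ?_))
    · rw [← cancel_mono M.a, Category.assoc, hk]
      exact hP.lift_fst _ _ _
    · rw [hP.lift_fst, ← hk, ← Category.assoc, h1]
    · rw [hP.lift_snd, h2]
  let Q : Over S := Over.mk (pullback.snd M.g.left e.left ≫ T.hom)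
  let q₂ : Q ⟶ T := Over.homMk (pullback.snd M.g.left e.left) rfl
  let q₁ : Q ⟶ M.U := Over.homMk (pullback.fst M.g.left e.left) (by
    show pullback.fst _ _ ≫ M.U.hom = pullback.snd _ _ ≫ T.hom
    rw [← Over.w M.g, pullback.condition_assoc, Over.w e])
  have sq : IsPullback q₁ q₂ M.g e := IsPullback.of_map (Over.forget S)
    (Over.OverMorphism.ext pullback.condition) (IsPullback.of_hasPullback M.g.left e.left)
  haveI : IsIso q₂ := by
    have hv' : l.left v ∈ BiratDense12.maxPts M.V.left := by
      refine (mem_genericPoints_iff (isOpenEmbedding_ofPt M.hb) _).2 ?_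
      rw [← ofPt_map_comp, hl]; exact hv
    haveI := Groth.Agent.S9677.result M.g.left M.finU M.finV M.bij M.iso (l.left v) hv'
    have he : e.left = Spec.map (l.left.stalkMap v) ≫ M.V.left.fromSpecStalk (l.left v) := by
      rw [Scheme.SpecMap_stalkMap_fromSpecStalk]; rfl
    haveI : IsIso (pullback.snd M.g.left e.left) := by
      rw [he]; exact isIso_snd_comp _ _ _
    haveI : IsIso ((Over.forget S).map q₂) := ‹IsIso (pullback.snd M.g.left e.left)›
    exact isIso_of_reflects_iso q₂ (Over.forget S)
  rw [← hsq.isoIsPullback_hom_snd _ _ (sq.map (yon S))]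
  infer_instance

end Groth.Agent.AlgSpBirat4
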